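import Cfsg.Agent.Elusive25.Models
import Cfsg.Agent.Elusive.AltForm
import Cfsg.Prelude.Def_GeometricClasses

/-!
Orthogonal groups in characteristic two: membership in `Ω`, involutions and their fixed vectors,
and the number of non-singular points.
-/

set_option autoImplicit false

namespace Cfsg.Agent.Elusive25

open QuadraticMap Module Cfsg.Agent.Classical Cfsg.Agent.Forms

variable {F : Type*} [Field F] [Fintype F] {ι : Type} [Fintype ι] [DecidableEq ι]

/-- The matrix of an isometry. -/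
noncomputable def glOf (R : QuadraticForm F (ι → F)) : OQ R →* Matrix.GeneralLinearGroup ι F :=
  (Cfsg.isometryGroup F ⇑R).subtype.comp (OrthGen.matEquiv R).symm.toMonoidHom

theorem glOf_mulVec (R : QuadraticForm F (ι → F)) (g : OQ R) (v : ι → F) :
    ((glOf R g : Matrix.GeneralLinearGroup ι F) : Matrix ι ι F).mulVec v = g.1 v :=
  matEquiv_symm_mulVec R g v

theorem glOf_mem_omegaGL (R : QuadraticForm F (ι → F)) {g : OQ R} (hg : g ∈ commutator (OQ R)) :
    glOf R g ∈ Cfsg.Geo.omegaGL ⇑R :=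
  ⟨(OrthGen.matEquiv R).symm g, (mem_Omega_iff_matEquiv R _).2 (by simpa using hg), rfl⟩

/-- An isometry of odd order lies in the commutator subgroup. -/
theorem mem_commutator_of_pow {V : Type*} [AddCommGroup V] [Module F V] [FiniteDimensional F V]
    [Finite V] {Q : QuadraticForm F V} (hB : BNondeg Q) (hx : OrthGen.NotExceptional Q) {g : OQ Q}
    {r : ℕ} (hr : Odd r) (hg : g ^ r = 1) : g ∈ commutator (OQ Q) := by
  obtain ⟨k, hk⟩ := hr
  have h : g = g ^ (k + 1) * g ^ (k + 1) := by
    rw [← pow_add, show k + 1 + (k + 1) = r + 1 by omega, pow_succ, hg, one_mul]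
  rw [h]
  exact mul_self_mem_commutator hB hx _

omit [Fintype F] in
theorem apply_of_mem_omegaGL {f : (ι → F) → F} {x : Matrix.GeneralLinearGroup ι F}
    (hx : x ∈ Cfsg.Geo.omegaGL f) (v : ι → F) : f ((x : Matrix ι ι F).mulVec v) = f v := by
  obtain ⟨y, -, rfl⟩ := hx
  exact y.2 v v

omit [Fintype F] in
/-- In characteristic two a fixed line through a non-singular vector is fixed pointwise. -/
theorem fixed_of_line [CharP F 2] {R : QuadraticForm F (ι → F)} {M : Matrix ι ι F}
    (hM : ∀ v, R (M.mulVec v) = R v) {W : Submodule F (ι → F)} (hW : finrank F ↥W = 1) {v : ι → F}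
    (hv : v ∈ W) (hv0 : R v ≠ 0) (hmap : W.map (Matrix.toLin' M) ≤ W) : M.mulVec v = v := by
  have hvne : v ≠ 0 := fun h => hv0 (by rw [h, map_zero])
  have hWeq : F ∙ v = W := by
    refine Submodule.eq_of_le_of_finrank_eq ((Submodule.span_singleton_le_iff_mem v W).2 hv) ?_
    rw [finrank_span_singleton hvne, hW]
  have h1 : M.mulVec v ∈ F ∙ v := hWeq ▸ hmap ⟨v, hv, rfl⟩
  obtain ⟨c, hc⟩ := Submodule.mem_span_singleton.1 h1
  have h2 := hM v
  rw [← hc, QuadraticMap.map_smul, smul_eq_mul, mul_eq_right₀ hv0] at h2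
  rw [← hc]
  rcases mul_self_eq_one_iff.1 h2 with h | h
  · rw [h, one_smul]
  · rw [h, CharTwo.neg_eq, one_smul]

omit [Fintype F] in
/-- An isometry with scalar square is an involution in characteristic two. -/
theorem sq_eq_one_of_scalar [CharP F 2] {R : QuadraticForm F (ι → F)} {v₀ : ι → F} (hv₀ : R v₀ ≠ 0)
    {M : Matrix ι ι F} (hM : ∀ v, R (M.mulVec v) = R v) {z : F} (hz : M ^ 2 = z • (1 : Matrix ι ι F))
    (v : ι → F) : M.mulVec (M.mulVec v) = v := by
  have h : ∀ w, M.mulVec (M.mulVec w) = z • w := fun w => by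
    rw [Matrix.mulVec_mulVec, ← pow_two, hz, Matrix.smul_mulVec, Matrix.one_mulVec]
  have h2 := hM (M.mulVec v₀)
  rw [h, hM, QuadraticMap.map_smul, smul_eq_mul, mul_eq_right₀ hv₀] at h2
  rw [h]
  rcases mul_self_eq_one_iff.1 h2 with h' | h'
  · rw [h', one_smul]
  · rw [h', CharTwo.neg_eq, one_smul]

/-- If all fixed vectors of an involutory isometry are singular, the dimension is `2d` with `d`
even and the fixed space has dimension `d`. -/
theorem even_of_fix_singular [CharP F 2] {V : Type*} [AddCommGroup V] [Module F V]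
    [FiniteDimensional F V] {R : QuadraticForm F V} (hB : BNondeg R) (f : Module.End F V)
    (hiso : ∀ v, R (f v) = R v) (hinv : ∀ v, f (f v) = v) {d : ℕ} (hd : finrank F V = 2 * d)
    (hS : ∀ v, f v = v → R v = 0) :
    finrank F (LinearMap.ker (f - 1)) = d ∧ Even d := by
  set N : Module.End F V := f - 1
  have hN : ∀ v, N v = f v - v := fun v => rfl
  have hchar : ∀ v : V, -v = v := fun v => by
    rw [← neg_one_smul F v, CharTwo.neg_eq, one_smul]
  have hker : ∀ v, v ∈ LinearMap.ker N ↔ f v = v := fun v => by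
    rw [LinearMap.mem_ker, hN, sub_eq_zero]
  have hTS : ∀ s ∈ LinearMap.ker N, R s = 0 := fun s hs => hS s ((hker s).1 hs)
  have hrk : LinearMap.range N ≤ LinearMap.ker N := by
    rintro _ ⟨w, rfl⟩
    rw [hker, hN, map_sub, hinv, ← neg_sub, hchar]
  have h1 := LinearMap.finrank_range_add_finrank_ker N
  have h2 := Submodule.finrank_mono hrk
  have h3 := OrthGen.two_mul_finrank_le hB _ hTS
  have hfin : finrank F (LinearMap.ker N) = d := by omega
  refine ⟨hfin, ?_⟩
  have horth : ∀ a ∈ LinearMap.ker N, ∀ b ∈ LinearMap.ker N, polar R a b = 0 := fun a ha b hb => by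
    simp [polar, hTS _ ha, hTS _ hb, hTS _ (add_mem ha hb)]
  have hNk : ∀ w, N w ∈ LinearMap.ker N := fun w => hrk ⟨w, rfl⟩
  obtain ⟨W, hW⟩ := Submodule.exists_isCompl (LinearMap.ker N)
  have hWd : finrank F W = d := by
    have := Submodule.finrank_add_eq_of_isCompl hW
    omega
  let β : LinearMap.BilinForm F W := (polarBilin R).compl₁₂ (N.comp W.subtype) W.subtype
  have hβ : ∀ a b : W, β a b = polar R (N a) (b : V) := fun a b => rfl
  have hA : β.IsAlt := fun a => by
    have h := hiso (a : V)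
    rw [show f (a : V) = N (a : V) + (a : V) by rw [hN, sub_add_cancel], qf_add,
      hTS _ (hNk _), zero_add, add_comm, add_eq_right] at h
    exact h
  have hnd : ∀ a : W, (∀ b, β a b = 0) → a = 0 := fun a ha => by
    have h0 : N (a : V) = 0 := hB _ fun y => by
      have hy : y ∈ LinearMap.ker N ⊔ W := hW.sup_eq_top ▸ Submodule.mem_top
      obtain ⟨k, hk, b, hb, rfl⟩ := Submodule.mem_sup.1 hy
      rw [polar_add_right, horth _ (hNk _) k hk, zero_add]
      exact ha ⟨b, hb⟩
    have : (a : V) ∈ LinearMap.ker N ⊓ W := ⟨LinearMap.mem_ker.2 h0, a.2⟩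
    rw [hW.inf_eq_bot, Submodule.mem_bot] at this
    exact Subtype.ext this
  have := Elusive.even_finrank_of_alt hA hnd
  rwa [hWd] at this

/-- An involution of `Ω⁺` with totally singular fixed space, for even `d`. -/
theorem exists_involution_singular_fix [CharP F 2] {d : ℕ} (hd : 2 ≤ d) (he : Even d)
    (h : Fintype.card F ≠ 2 ∨ d ≠ 2) :
    ∃ g : OQ (plusQF d F), g ∈ commutator (OQ (plusQF d F)) ∧ g * g = 1 ∧ g ≠ 1 ∧
      ∀ v, g.1 v = v → plusQF d F v = 0 := by
  classical
  let N : (Fin d ⊕ Fin d → F) →ₗ[F] (Fin d ⊕ Fin d → F) :=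
    { toFun := fun v => Sum.elim (fun i => v (Sum.inr i.rev)) 0
      map_add' := fun u v => by ext (i | i) <;> simp
      map_smul' := fun c v => by ext (i | i) <;> simp }
  have hNl : ∀ v i, N v (Sum.inl i) = v (Sum.inr i.rev) := fun v i => rfl
  have hNr : ∀ v i, N v (Sum.inr i) = 0 := fun v i => rfl
  have hNN : ∀ v, N (N v) = 0 := fun v => by ext (i | i) <;> simp [hNl, hNr]
  have hTwo : ∀ v : Fin d ⊕ Fin d → F, v + v = 0 := fun v => funext fun i => CharTwo.add_self_eq_zero _
  let E : (Fin d ⊕ Fin d → F) ≃ₗ[F] (Fin d ⊕ Fin d → F) :=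
    { toLinearMap := LinearMap.id + N
      invFun := fun v => v + N v
      left_inv := fun v => by
        show (v + N v) + N (v + N v) = v
        rw [map_add, hNN, add_zero, add_assoc, hTwo, add_zero]
      right_inv := fun v => by
        show (v + N v) + N (v + N v) = v
        rw [map_add, hNN, add_zero, add_assoc, hTwo, add_zero] }
  have hE : ∀ v, E v = v + N v := fun v => rfl
  have hiso : ∀ v, plusQF d F (E v) = plusQF d F v := fun v => by
    simp only [plusQF_apply, Cfsg.quadFormPlus, hE, Pi.add_apply, hNl, hNr, add_zero, add_mul,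
      Finset.sum_add_distrib, add_eq_left]
    refine Finset.sum_involution (fun i _ => i.rev) (fun i _ => ?_) (fun i _ _ hrev => ?_)
      (fun i _ => Finset.mem_univ _) (fun i _ => Fin.rev_rev i)
    · rw [Fin.rev_rev, mul_comm (v (Sum.inr i))]
      exact CharTwo.add_self_eq_zero _
    · have h1 := congrArg Fin.val hrev
      rw [Fin.val_rev] at h1
      obtain ⟨k, hk⟩ := he
      omega
  let g : OQ (plusQF d F) := ⟨E, hiso⟩
  have hfix : ∀ v, g.1 v = v ↔ v ∈ LinearMap.ker (LinearMap.funLeft F F (Sum.inr : Fin d → Fin d ⊕ Fin d)) := fun v => by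
    change v + N v = v ↔ _
    rw [add_eq_left, LinearMap.mem_ker]
    constructor
    · intro h0
      funext i
      have := congrFun h0 (Sum.inl i.rev)
      rwa [hNl, Fin.rev_rev] at this
    · intro h0
      ext (i | i)
      · exact congrFun h0 i.rev
      · rfl
  obtain ⟨hU, hUd, hV⟩ := totallySingular_ker_inr (F := F) (m := d)
  refine ⟨g, ?_, ?_, ?_, fun v hv => hU v ((hfix v).1 hv)⟩
  · rw [OrthGen.commutator_eq_ker_dickson bNondeg_plusQF (notExceptional_plusQF h), MonoidHom.mem_ker]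
    show dickson g = 1
    rw [dickson, show fixSpace g = _ from Submodule.ext fun v => mem_fixSpace.trans (hfix v), hUd, hV]
    obtain ⟨k, hk⟩ := he
    exact (Even.add ⟨k, hk⟩ (even_two_mul d)).neg_one_pow
  · refine Subtype.ext (LinearEquiv.ext fun v => ?_)
    show (v + N v) + N (v + N v) = v
    rw [map_add, hNN, add_zero, add_assoc, hTwo, add_zero]
  · intro h1
    have h2 := (hfix (Pi.single (Sum.inr ⟨0, by omega⟩) 1)).1 (by rw [h1]; rfl)
    have := congrFun (LinearMap.mem_ker.1 h2) ⟨0, by omega⟩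
    simp [LinearMap.funLeft_apply] at this

theorem bNondeg_minusQF [CharP F 2] {m : ℕ} {a b : F}
    (hab : ∀ z₁ z₂ : F, z₁ ^ 2 + a * z₁ * z₂ + b * z₂ ^ 2 = 0 → z₁ = 0 ∧ z₂ = 0) :
    BNondeg (minusQF m a b) := by
  refine Classical.bNondeg_congr (Classical.minusEquiv m) (Classical.minusEquiv_spec m a b)
    (Classical.bNondeg_hypExt _ fun z hz => ?_)
  have h0 := hz ![1, 0]
  have h1 := hz ![0, 1]
  simp [polar_binQF] at h0 h1
  have h2 : (2 : F) = 0 := CharTwo.two_eq_zero
  have hdet := binDisc_ne_zero (anisotropic_binQF hab)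
  have ha : a ≠ 0 := fun h => hdet (by linear_combination a * h - 2 * b * h2)
  simp [h2, ha] at h0 h1
  ext i; fin_cases i <;> assumption

theorem not_dvd_card [CharP F 2] {r : ℕ} (hr : r.Prime) (hr2 : r ≠ 2) : ¬ r ∣ Fintype.card F := by
  obtain ⟨e, -, he⟩ := FiniteField.card F 2
  intro h
  exact hr2 ((Nat.prime_dvd_prime_iff_eq hr Nat.prime_two).1 (hr.dvd_of_dvd_pow (he ▸ h)))

theorem not_scalar_of_fpf [CharP F 2] {R : QuadraticForm F (ι → F)} {v₀ : ι → F} (hv₀ : R v₀ ≠ 0)
    {g : OQ R} (hfix : ∀ v, g.1 v = v → v = 0) (z : F) :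
    (glOf R g : Matrix ι ι F) ≠ z • (1 : Matrix ι ι F) := by
  intro hz
  have hg1 : ∀ u, g.1 u = z • u := fun u => by
    rw [← glOf_mulVec, hz, Matrix.smul_mulVec, Matrix.one_mulVec]
  have h2 := g.2 v₀
  rw [hg1, QuadraticMap.map_smul, smul_eq_mul, mul_eq_right₀ hv₀] at h2
  have hz1 : z = 1 := by
    rcases mul_self_eq_one_iff.1 h2 with h' | h'
    · exact h'
    · rw [h', CharTwo.neg_eq]
  exact hv₀ (by rw [hfix v₀ (by rw [hg1, hz1, one_smul]), map_zero])

/-- Non-singular points, counted through the singular vectors. -/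
theorem card_nonsingular_points (R : QuadraticForm F (ι → F)) :
    Nat.card {W : Submodule F (ι → F) // finrank F ↥W = 1 ∧ ∃ v ∈ W, R v ≠ 0} *
        (Fintype.card F - 1) + Nat.card {v // R v = 0} = Fintype.card F ^ Fintype.card ι := by
  classical
  letI : Fintype {W : Submodule F (ι → F) // finrank F ↥W = 1 ∧ ∃ v ∈ W, R v ≠ 0} := Fintype.ofFinite _
  have hspan : ∀ (W : Submodule F (ι → F)), finrank F ↥W = 1 → ∀ v ∈ W, v ≠ 0 → F ∙ v = W :=
    fun W hW v hv hv0 => Submodule.eq_of_le_of_finrank_eq ((Submodule.span_singleton_le_iff_mem v W).2 hv)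
      (by rw [finrank_span_singleton hv0, hW])
  have hns : ∀ (W : {W : Submodule F (ι → F) // finrank F ↥W = 1 ∧ ∃ v ∈ W, R v ≠ 0}),
      ∀ v ∈ W.1, v ≠ 0 → R v ≠ 0 := by
    rintro ⟨W, hW, w, hw, hw0⟩ v hv hv0 h
    rw [← hspan W hW v hv hv0] at hw
    obtain ⟨c, rfl⟩ := Submodule.mem_span_singleton.1 hw
    exact hw0 (by rw [QuadraticMap.map_smul, h, smul_zero])
  have hne : ∀ v : {v // R v ≠ 0}, v.1 ≠ 0 := fun v h => v.2 (by rw [h, map_zero])
  let φ : {v // R v ≠ 0} ≃ Σ W : {W : Submodule F (ι → F) // finrank F ↥W = 1 ∧ ∃ v ∈ W, R v ≠ 0},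
      {v : W.1 // v ≠ 0} :=
    { toFun := fun v => ⟨⟨F ∙ v.1, finrank_span_singleton (hne v), v.1, Submodule.mem_span_singleton_self _, v.2⟩,
        ⟨v.1, Submodule.mem_span_singleton_self _⟩, fun h => hne v (congrArg Subtype.val h)⟩
      invFun := fun x => ⟨x.2.1.1, hns x.1 _ x.2.1.2 fun h => x.2.2 (Subtype.ext h)⟩
      left_inv := fun v => rfl
      right_inv := by
        rintro ⟨⟨W, hW, hW'⟩, ⟨v, hv⟩, hv0⟩
        have he := hspan W hW v hv fun h => hv0 (Subtype.ext h)
        subst he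
        rfl }
  have hc : Nat.card {v // R v ≠ 0} =
      Nat.card {W : Submodule F (ι → F) // finrank F ↥W = 1 ∧ ∃ v ∈ W, R v ≠ 0} * (Fintype.card F - 1) := by
    rw [Nat.card_congr φ, Nat.card_sigma, Finset.sum_eq_card_nsmul (b := Fintype.card F - 1) fun W _ => ?_,
      Finset.card_univ, ← Nat.card_eq_fintype_card, smul_eq_mul]
    rw [Nat.card_eq_fintype_card, Fintype.card_subtype_compl, Fintype.card_subtype_eq,
      Module.card_eq_pow_finrank (K := F), W.2.1, pow_one]
  rw [← hc, Nat.card_eq_fintype_card, Nat.card_eq_fintype_card, Fintype.card_subtype_compl,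
    Nat.sub_add_cancel (Fintype.card_subtype_le _), Fintype.card_fun]

end Cfsg.Agent.Elusive25
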