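import Cfsg.Agent.Forms.OmegaPlus
import Cfsg.Agent.Forms.OmegaCrit
import Cfsg.Agent.Forms.Restrict
import Cfsg.Agent.Classical.OrthForms
import Mathlib.FieldTheory.Finite.Extension

/-!
Isometries of prime order without fixed vectors in the orthogonal groups of plus and minus type
(the tori of orders `q^d - 1` and `q^d + 1`).
-/

set_option autoImplicit false

namespace Cfsg.Agent.Elusive25

open QuadraticMap Module Cfsg.Agent.Classical Cfsg.Agent.Forms

variable {F : Type*} [Field F] [Fintype F]

/-- For `r` an odd prime dividing `q^(m+1) + 1`, the minus type orthogonal group in dimension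
`2m + 2` has an element of order `r` without non-zero fixed vector. -/
theorem exists_fpf_minus {m r : ℕ} [Fact r.Prime] {a b : F} (hab : BinaryAniso a b)
    (hdvd : r ∣ Fintype.card F ^ (m + 1) + 1) :
    ∃ g : OQ (minusQF m a b), g ^ r = 1 ∧ ∀ v, g.1 v = v → v = 0 := by
  classical
  have hr : r.Prime := Fact.out
  set q := Fintype.card F with hq
  obtain ⟨p, hp⟩ := CharP.exists F
  haveI : Fact p.Prime := ⟨CharP.char_is_prime F p⟩
  let L := FiniteField.Extension F p (m + 1)
  letI : Fintype L := Fintype.ofFinite L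
  haveI : CharP L p := charP_of_injective_algebraMap (algebraMap F L).injective p
  let K := FiniteField.Extension L p 2
  letI : Fintype K := Fintype.ofFinite K
  have hL : Fintype.card L = q ^ (m + 1) := by
    rw [← Nat.card_eq_fintype_card, FiniteField.natCard_extension, Nat.card_eq_fintype_card]
  have hK : Fintype.card K = (q ^ (m + 1)) ^ 2 := by
    rw [← Nat.card_eq_fintype_card, FiniteField.natCard_extension, Nat.card_eq_fintype_card, hL]
  letI : Algebra F K := ((algebraMap L K).comp (algebraMap F L)).toAlgebra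
  haveI : IsScalarTower F L K := IsScalarTower.of_algebraMap_eq fun _ => rfl
  obtain ⟨N, hN, hnd⟩ := exists_hermQuad hK hL 1
  let s : L →ₗ[F] F := Algebra.trace F L
  have hsurj : Function.Surjective s := Algebra.trace_surjective F L
  let Q' : QuadraticForm F (Fin 1 → K) := s.compQuadraticMap' N
  have hQ' : ∀ v, Q' v = s (N v) := fun v => rfl
  -- non-singular
  have hns : NonsingOn Q' ⊤ := by
    intro u _ hu _
    refine hnd.1 u fun v => ?_
    by_contra hx
    rw [polarBilin_apply_apply] at hx
    obtain ⟨y, hy⟩ := hsurj 1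
    have hc := hu ((y * (polar N u v)⁻¹) • v) trivial
    rw [show polar Q' u ((y * (polar N u v)⁻¹) • v) = s (polar N u ((y * (polar N u v)⁻¹) • v)) from
      LinearMap.compQuadraticMap_polar s N _ _, polar_smul_right, smul_eq_mul, mul_assoc,
      inv_mul_cancel₀ hx, mul_one, hy] at hc
    exact one_ne_zero hc
  -- the element
  have hq1 : 1 ≤ q ^ (m + 1) := Nat.one_le_pow _ _ Fintype.card_pos
  obtain ⟨μ, hμ⟩ := exists_prime_orderOf_dvd_card' (G := Kˣ) r (by
    rw [Nat.card_units, Nat.card_eq_fintype_card, hK,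
      show (q ^ (m + 1)) ^ 2 - 1 = (q ^ (m + 1) + 1) * (q ^ (m + 1) - 1) by
        rw [← Nat.sq_sub_sq, one_pow]]
    exact hdvd.mul_right _)
  have hμQ : (μ : K) ^ (q ^ (m + 1) + 1) = 1 := by
    rw [← Units.val_pow_eq_pow_val, orderOf_dvd_iff_pow_eq_one.1 (hμ ▸ hdvd), Units.val_one]
  have hμ1 : (μ : K) ≠ 1 := fun h => hr.ne_one (by
    rw [← hμ, Units.val_eq_one.1 h, orderOf_one])
  let eμ : (Fin 1 → K) ≃ₗ[F] (Fin 1 → K) := DistribMulAction.toLinearEquiv F (Fin 1 → K) μ
  have heμ : ∀ v, eμ v = (μ : K) • v := fun v => rfl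
  have hinv : ∀ v, Q' (eμ v) = Q' v := fun v => by
    rw [hQ', hQ']
    congr 1
    refine (algebraMap L K).injective ?_
    rw [hN, hN, heμ]
    simp only [Cfsg.hermForm, Finset.univ_unique, Finset.sum_singleton, Pi.smul_apply, smul_eq_mul,
      mul_pow]
    rw [pow_succ] at hμQ
    linear_combination (v default * v default ^ q ^ (m + 1)) * hμQ
  let g₀ : OQ Q' := ⟨eμ, hinv⟩
  have hg₀ : g₀ ^ r = 1 := by
    refine Subtype.ext (LinearEquiv.ext fun v => ?_)
    rw [SubgroupClass.coe_pow]
    have hpow : ∀ k : ℕ, ∀ w, (eμ ^ k) w = ((μ : K) ^ k) • w := by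
      intro k
      induction k with
      | zero => intro w; simp
      | succ k ih => intro w; rw [pow_succ, LinearEquiv.mul_apply, ih, heμ, smul_smul, ← pow_succ]
    show (eμ ^ r) v = v
    rw [hpow, ← Units.val_pow_eq_pow_val, ← hμ, pow_orderOf_eq_one, Units.val_one, one_smul]
  have hfix : ∀ v, g₀.1 v = v → v = 0 := fun v hv => by
    change (μ : K) • v = v at hv
    have : ((μ : K) - 1) • v = 0 := by rw [sub_smul, one_smul, hv, sub_self]
    exact (smul_eq_zero.1 this).resolve_left (sub_ne_zero.2 hμ1)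
  -- dimensions
  have hdim : finrank F (Fin 1 → K) = 2 * (m + 1) := by
    have h := Module.card_eq_pow_finrank (K := F) (V := Fin 1 → K)
    rw [Fintype.card_fun, Fintype.card_fin, pow_one, hK, ← pow_mul] at h
    rw [mul_comm]
    exact (Nat.pow_right_injective Fintype.one_lt_card h).symm
  -- the singular vectors
  have hker : Nat.card (LinearMap.ker s) = q ^ m := by
    have h1 := LinearMap.finrank_range_add_finrank_ker s
    rw [LinearMap.range_eq_top.2 hsurj, finrank_top, Module.finrank_self,
      FiniteField.finrank_extension] at h1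
    rw [Module.natCard_eq_pow_finrank (K := F), Nat.card_eq_fintype_card,
      show finrank F (LinearMap.ker s) = m by omega]
  have hdimL : finrank L (Fin 1 → K) = 2 := by
    rw [Module.finrank_pi_fintype]
    simp [finrank_eq_two_of_card_sq hK hL]
  have hNA : ∀ v, N v = 0 → v = 0 := fun v hv => by
    have h := hN v
    rw [hv, map_zero] at h
    simp only [Cfsg.hermForm, Finset.univ_unique, Finset.sum_singleton, zero_eq_mul] at h
    funext i
    rw [Fin.eq_zero i]
    rcases h with h | h
    · exact h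
    · exact eq_zero_of_pow_eq_zero h
  obtain ⟨a', b', e₂, hab', he₂⟩ := exists_binary_normal_form N hNA hdimL
  have hfib : ∀ c : L, Nat.card {v // N v = c} = if c = 0 then 1 else q ^ (m + 1) + 1 := by
    intro c
    rw [show Nat.card {v // N v = c} = Nat.card {z // binQF a' b' z = c} from
      Nat.card_congr (e₂.toEquiv.subtypeEquiv fun v => by simp [he₂])]
    split_ifs with hc
    · subst hc
      exact card_zeros_of_anisotropic (anisotropic_binQF hab')
    · rw [card_binQF_eq (anisotropic_binQF hab') hc, card_binQF_one (anisotropic_binQF hab'),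
        Nat.card_eq_fintype_card, hL]
  have hzero : Nat.card {v // Q' v = 0} = 1 + (q ^ m - 1) * (q ^ (m + 1) + 1) := by
    let φ : {v // Q' v = 0} ≃ Σ c : LinearMap.ker s, {v // N v = (c : L)} :=
      { toFun := fun v => ⟨⟨N v.1, v.2⟩, v.1, rfl⟩
        invFun := fun x => ⟨x.2.1, by rw [hQ', x.2.2]; exact x.1.2⟩
        left_inv := fun v => rfl
        right_inv := by
          rintro ⟨⟨c, hc⟩, v, hv⟩
          simp only at hv
          subst hv
          rfl }
    letI : Fintype (LinearMap.ker s) := Fintype.ofFinite _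
    rw [Nat.card_congr φ, Nat.card_sigma]
    simp only [hfib, Submodule.coe_eq_zero]
    rw [Finset.sum_ite, Finset.filter_eq', if_pos (Finset.mem_univ _), Finset.sum_singleton,
      Finset.sum_const, smul_eq_mul, Finset.filter_ne', Finset.card_erase_of_mem (Finset.mem_univ _),
      Finset.card_univ, ← Nat.card_eq_fintype_card, hker]
  obtain ⟨m', h⟩ := exists_finite_witt_decomposition Q' hns
  rcases h with ⟨hd', e, he⟩ | ⟨hd', -⟩ | ⟨hd', a₁, b₁, hab₁, e, he⟩
  · exfalso
    obtain rfl : m' = m + 1 := by omega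
    have hz := card_zeros_hypExt_plus (F := F) m
    rw [← Nat.card_congr ((e.trans (plusEquiv (m + 1))).toEquiv.subtypeEquiv
      (p := fun v => Q' v = 0) fun v => by
        simp only [LinearEquiv.coe_toEquiv, LinearEquiv.trans_apply, plusEquiv_spec, plusQF_apply,
          ← he]),
      hzero, Nat.card_eq_fintype_card] at hz
    have hlt : q ^ m < q ^ (m + 1) := Nat.pow_lt_pow_right Fintype.one_lt_card (Nat.lt_succ_self m)
    rw [← hq, show (2 * m + 1) = m + (m + 1) by ring, pow_add q m (m + 1)] at hz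
    generalize q ^ (m + 1) = Q at *
    obtain ⟨k, hk⟩ : ∃ k, q ^ m = k + 1 := Nat.exists_eq_add_of_le' (Nat.one_le_pow _ _ Fintype.card_pos)
    rw [hk, Nat.add_sub_cancel] at hz
    rw [hk] at hlt
    nlinarith
  · omega
  · obtain rfl : m' = m := by omega
    obtain ⟨T, hT⟩ := exists_quadFormMinus_equiv hab₁ hab m'
    let ψ := OQCongr (Q := Q') (R := minusQF m' a b) (e.trans T)
      (fun v => by rw [LinearEquiv.trans_apply, minusQF_apply, hT, he])
    refine ⟨ψ g₀, by rw [← map_pow, hg₀, map_one], fun w hw => ?_⟩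
    change (e.trans T) (g₀.1 ((e.trans T).symm w)) = w at hw
    have h0 := hfix _ ((e.trans T).injective (hw.trans ((e.trans T).apply_symm_apply w).symm))
    rw [← (e.trans T).apply_symm_apply w, h0, map_zero]

/-- For `r` a prime dividing `q^m - 1`, the hyperbolic orthogonal group in dimension `2m` has an
element of order `r` without non-zero fixed vector. -/
theorem exists_fpf_plus {m r : ℕ} [Fact r.Prime] (hm : 1 ≤ m) (hdvd : r ∣ Fintype.card F ^ m - 1) :
    ∃ g : OQ (plusQF m F), g ^ r = 1 ∧ ∀ v, g.1 v = v → v = 0 := by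
  classical
  have hr : r.Prime := Fact.out
  obtain ⟨p, hp⟩ := CharP.exists F
  haveI : Fact p.Prime := ⟨CharP.char_is_prime F p⟩
  haveI : NeZero m := ⟨by omega⟩
  let L := FiniteField.Extension F p m
  have hL : Nat.card L = Fintype.card F ^ m := by
    rw [FiniteField.natCard_extension, Nat.card_eq_fintype_card]
  obtain ⟨μ, hμ⟩ := exists_prime_orderOf_dvd_card' (G := Lˣ) r (by rwa [Nat.card_units, hL])
  let β : Module.Basis (Fin m) F L :=
    (Module.finBasis F L).reindex (finCongr (FiniteField.finrank_extension F p m))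
  let Λ : Lˣ →* Matrix.GeneralLinearGroup (Fin m) F :=
    Units.map (Algebra.leftMulMatrix β).toRingHom.toMonoidHom
  refine ⟨levi (Λ μ), by rw [← map_pow, ← map_pow, ← hμ, pow_orderOf_eq_one, map_one, map_one],
    fun v hv => ?_⟩
  rw [levi_apply, leviMat_mulVec] at hv
  have hu : ∀ ν : Lˣ, ν ≠ 1 → IsUnit ((Λ ν : Matrix (Fin m) (Fin m) F) - 1).det := by
    intro ν hν
    rw [← Matrix.isUnit_iff_isUnit_det]
    show IsUnit (Algebra.leftMulMatrix β (ν : L) - 1)
    rw [← map_one (Algebra.leftMulMatrix β), ← map_sub]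
    exact (Ne.isUnit (sub_ne_zero.2 fun h => hν (Units.val_eq_one.1 h))).map _
  have hμ1 : μ ≠ 1 := fun h => hr.ne_one (by rw [← hμ, h, orderOf_one])
  have key : ∀ M : Matrix (Fin m) (Fin m) F, IsUnit (M - 1).det → ∀ x, M.mulVec x = x → x = 0 :=
    fun M hM x hx => Matrix.mulVec_injective_iff_isUnit.2 ((Matrix.isUnit_iff_isUnit_det _).2 hM)
      (by rw [Matrix.sub_mulVec, Matrix.one_mulVec, hx, sub_self, Matrix.mulVec_zero])
  have hl := key _ (hu μ hμ1) (v ∘ Sum.inl) (by
    conv_rhs => rw [← hv]
    rfl)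
  have hr' := key ((Λ μ)⁻¹ : Matrix.GeneralLinearGroup (Fin m) F).val.transpose (by
      rw [← Matrix.transpose_one, ← Matrix.transpose_sub, Matrix.det_transpose, ← map_inv]
      exact hu μ⁻¹ (inv_ne_one.2 hμ1)) (v ∘ Sum.inr) (by
    conv_rhs => rw [← hv]
    rfl)
  ext (i | i)
  · exact congrFun hl i
  · exact congrFun hr' i

end Cfsg.Agent.Elusive25
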