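import Cfsg.Agent.Elusive.Unipotent
import Cfsg.Agent.CharTwoInvol.Basic
import Cfsg.Agent.Forms25.Disc
import Cfsg.Agent.Elusive25.Even

/-!
Unipotent isometries of symmetric forms in odd characteristic: existence for prescribed block sizes
(even sizes with even multiplicity), and the parity of the blocks on invariant non-degenerate subspaces.
-/

set_option autoImplicit false

namespace Cfsg.Agent.Elusive25

open Module
open LinearMap (BilinForm)
open Cfsg.Agent.Elusive (layerDim layerSpace)

section layers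

variable {F : Type*} [Field F] {V : Type*} [AddCommGroup V] [Module F V]

theorem layerDim_conj {V' : Type*} [AddCommGroup V'] [Module F V'] (E : V ≃ₗ[F] V')
    (N : Module.End F V) (N' : Module.End F V') (h : ∀ v, N' (E v) = E (N v)) (k : ℕ) :
    layerDim N' ⊤ k = layerDim N ⊤ k := by
  have hpow : ∀ m v, (N' ^ m) (E v) = E ((N ^ m) v) := by
    intro m
    induction m with
    | zero => intro v; simp
    | succ m ih => intro v; rw [pow_succ', Module.End.mul_apply, ih, h, pow_succ', Module.End.mul_apply]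
  have hmap : layerSpace N' ⊤ k = (layerSpace N ⊤ k).map E.toLinearMap := by
    ext z
    constructor
    · rintro ⟨u, ⟨-, hu⟩, rfl⟩
      obtain ⟨v, rfl⟩ := E.surjective u
      refine ⟨_, ⟨v, ⟨trivial, ?_⟩, rfl⟩, (hpow k v).symm⟩
      exact E.map_eq_zero_iff.1 ((hpow (k + 1) v).symm.trans hu)
    · rintro ⟨_, ⟨v, ⟨-, hv⟩, rfl⟩, rfl⟩
      exact ⟨E v, ⟨trivial, by rw [SetLike.mem_coe, LinearMap.mem_ker, hpow, LinearMap.mem_ker.1 hv,
        map_zero]⟩, hpow k v⟩
  rw [layerDim, hmap, LinearEquiv.finrank_map_eq, layerDim]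

theorem layerDim_unit_mul [FiniteDimensional F V] {N U : Module.End F V} (hU : IsUnit U)
    (hc : Commute U N) (k : ℕ) : layerDim (U * N) ⊤ k = layerDim N ⊤ k := by
  have hinj : ∀ m, Function.Injective ⇑(U ^ m) := fun m =>
    ((Module.End.isUnit_iff _).1 (hU.pow m)).1
  have hker : LinearMap.ker ((U * N) ^ (k + 1)) = LinearMap.ker (N ^ (k + 1)) := by
    ext v
    rw [LinearMap.mem_ker, LinearMap.mem_ker, hc.mul_pow, Module.End.mul_apply,
      (hinj _).eq_iff' (map_zero _)]
  rw [layerDim, layerDim, layerSpace, layerSpace, hker, hc.mul_pow, Module.End.mul_eq_comp,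
    Submodule.map_comp]
  exact (LinearEquiv.finrank_eq (Submodule.equivMapOfInjective (U ^ k) (hinj k) _)).symm

theorem layerDim_restrict {N : Module.End F V} {W : Submodule F V} (hW : ∀ v ∈ W, N v ∈ W) (k : ℕ) :
    layerDim (N.restrict hW) ⊤ k = layerDim N W k := by
  have hpow : ∀ m (v : W), (((N.restrict hW) ^ m) v : V) = (N ^ m) (v : V) := by
    intro m
    induction m with
    | zero => intro v; simp
    | succ m ih => intro v; rw [pow_succ', Module.End.mul_apply, LinearMap.restrict_apply,
        pow_succ', Module.End.mul_apply, ← ih]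
  have hmap : layerSpace N W k = (layerSpace (N.restrict hW) ⊤ k).map W.subtype := by
    ext z
    constructor
    · rintro ⟨u, ⟨hu, hu'⟩, rfl⟩
      refine ⟨((N.restrict hW) ^ k) ⟨u, hu⟩, ⟨⟨u, hu⟩, ⟨trivial, ?_⟩, rfl⟩, hpow k _⟩
      exact Subtype.ext ((hpow (k + 1) ⟨u, hu⟩).trans hu')
    · rintro ⟨_, ⟨v, ⟨-, hv⟩, rfl⟩, rfl⟩
      refine ⟨v, ⟨v.2, ?_⟩, (hpow k v).symm⟩
      exact (hpow (k + 1) v).symm.trans (congrArg Subtype.val hv)
  rw [layerDim, layerDim, hmap]
  exact LinearEquiv.finrank_eq (Submodule.equivMapOfInjective _ W.injective_subtype _)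

end layers

section model

variable {F : Type*} [Field F] {β : Type*} (sz : β → ℕ)

theorem blockExt {x y : Σ b, Fin (sz b)} (h : x.1 = y.1) (h' : (x.2 : ℕ) = y.2) : x = y := by
  obtain ⟨b, i⟩ := x
  obtain ⟨b', j⟩ := y
  simp only at h
  subst h
  exact Sigma.ext rfl (heq_of_eq (Fin.ext h'))

variable (F) in
/-- The shift of every block. -/
def blockShift : Module.End F ((Σ b, Fin (sz b)) → F) where
  toFun v x := if (x.2 : ℕ) = 0 then 0 else v ⟨x.1, ⟨x.2 - 1, by omega⟩⟩
  map_add' u v := by funext x; simp only [Pi.add_apply]; split_ifs <;> simp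
  map_smul' c v := by funext x; simp only [Pi.smul_apply]; split_ifs <;> simp

theorem blockShift_pow (k : ℕ) : ∀ (v : (Σ b, Fin (sz b)) → F) (x : Σ b, Fin (sz b)),
    (blockShift F sz ^ k) v x = if (x.2 : ℕ) < k then 0 else v ⟨x.1, ⟨x.2 - k, by omega⟩⟩ := by
  induction k with
  | zero => intro v x; simp
  | succ k ih =>
    intro v x
    rw [pow_succ, Module.End.mul_apply, ih]
    by_cases h1 : (x.2 : ℕ) < k
    · rw [if_pos h1, if_pos (by omega)]
    · rw [if_neg h1]
      show (if (x.2 : ℕ) - k = 0 then 0 else v ⟨x.1, ⟨x.2 - k - 1, by omega⟩⟩) = _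
      by_cases h2 : (x.2 : ℕ) < k + 1
      · rw [if_pos h2, if_pos (by omega)]
      · rw [if_neg h2, if_neg (by omega)]
        congr 1

theorem blockShift_pow_eq_zero {p : ℕ} (hp : ∀ b, sz b ≤ p) : blockShift F sz ^ p = 0 := by
  refine LinearMap.ext fun v => funext fun x => ?_
  have := x.2.2
  have := hp x.1
  rw [blockShift_pow, if_pos (by omega)]
  rfl

theorem layerDim_blockShift [Fintype β] (k : ℕ) :
    layerDim (blockShift F sz) ⊤ k = Nat.card {b // k < sz b} := by
  classical
  let Φ : ({b // k < sz b} → F) →ₗ[F] ((Σ b, Fin (sz b)) → F) :=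
    { toFun := fun c x => if h : k < sz x.1 ∧ (x.2 : ℕ) + 1 = sz x.1 then c ⟨x.1, h.1⟩ else 0
      map_add' := fun u v => by funext x; simp only [Pi.add_apply]; split_ifs <;> simp
      map_smul' := fun c v => by funext x; simp only [Pi.smul_apply]; split_ifs <;> simp }
  have hΦ : Function.Injective Φ := by
    intro u v h
    funext i
    have := congrFun h ⟨i.1, ⟨sz i.1 - 1, by have := i.2; omega⟩⟩
    have hh : k < sz i.1 ∧ sz i.1 - 1 + 1 = sz i.1 := ⟨i.2, by have := i.2; omega⟩
    simp only [Φ, LinearMap.coe_mk, AddHom.coe_mk, dif_pos hh] at this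
    exact this
  have hrange : layerSpace (blockShift F sz) ⊤ k = LinearMap.range Φ := by
    apply le_antisymm
    · rintro _ ⟨v, ⟨-, hv⟩, rfl⟩
      refine ⟨fun i => (blockShift F sz ^ k) v ⟨i.1, ⟨sz i.1 - 1, by have := i.2; omega⟩⟩,
        funext fun x => ?_⟩
      show (if h : _ then _ else (0 : F)) = _
      split_ifs with h
      · exact congrArg ((blockShift F sz ^ k) v) (blockExt sz rfl (by simp only; omega))
      · by_cases hk : (x.2 : ℕ) < k
        · rw [blockShift_pow, if_pos hk]
        · have hlt : (x.2 : ℕ) + 1 < sz x.1 := by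
            have := x.2.2
            by_contra hh
            exact h ⟨by omega, by omega⟩
          have := congrFun (LinearMap.mem_ker.1 hv) ⟨x.1, ⟨x.2 + 1, hlt⟩⟩
          rw [blockShift_pow, if_neg (by simp only; omega)] at this
          rw [blockShift_pow, if_neg hk]
          simp only [Nat.add_sub_add_right, Pi.zero_apply] at this
          exact this.symm
    · rintro _ ⟨c, rfl⟩
      refine ⟨fun x => if h : k < sz x.1 ∧ (x.2 : ℕ) + k + 1 = sz x.1 then c ⟨x.1, h.1⟩ else 0,
        ⟨trivial, ?_⟩, ?_⟩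
      · refine LinearMap.mem_ker.2 (funext fun x => ?_)
        rw [blockShift_pow]
        split_ifs with h1 h2
        · rfl
        · exfalso
          have := x.2.2
          simp only at h2
          omega
        · rfl
      · funext x
        rw [blockShift_pow]
        show _ = if h : k < sz x.1 ∧ (x.2 : ℕ) + 1 = sz x.1 then c ⟨x.1, h.1⟩ else 0
        have := x.2.2
        by_cases h1 : (x.2 : ℕ) < k
        · rw [if_pos h1, dif_neg (by omega)]
        · rw [if_neg h1]
          by_cases h : k < sz x.1 ∧ (x.2 : ℕ) + 1 = sz x.1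
          · rw [dif_pos h, dif_pos ⟨h.1, by simp only; omega⟩]
          · rw [dif_neg h, dif_neg fun hh => h ⟨hh.1, by have := hh.2; simp only at this; omega⟩]
  rw [layerDim, hrange, LinearMap.finrank_range_of_inj hΦ, Module.finrank_fintype_fun_eq_card,
    Nat.card_eq_fintype_card]

variable (π : β → β) (hπ : ∀ b, π (π b) = b) (hsz : ∀ b, sz (π b) = sz b)

/-- Reflection of the blocks. -/
def blockRefl (x : Σ b, Fin (sz b)) : Σ b, Fin (sz b) :=
  ⟨π x.1, ⟨sz x.1 - 1 - x.2, by rw [hsz]; have := x.2.2; omega⟩⟩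

include hπ in
theorem blockRefl_involutive : Function.Involutive (blockRefl sz π hsz) := fun x =>
  blockExt sz (hπ _) (by simp only [blockRefl, hsz]; have := x.2.2; omega)

/-- The Gram matrix pairing a block with its partner. -/
def blockGram [DecidableEq β] (c : β → F) : Matrix (Σ b, Fin (sz b)) (Σ b, Fin (sz b)) F :=
  Matrix.of fun x y => if y = blockRefl sz π hsz x then c x.1 * (-1) ^ (x.2 : ℕ) else 0

variable [Fintype β] [DecidableEq β]

/-- The symmetric form pairing a block with its partner. -/
noncomputable def blockForm (c : β → F) : BilinForm F ((Σ b, Fin (sz b)) → F) :=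
  Matrix.toBilin' (blockGram sz π hsz c)

theorem blockForm_apply (c : β → F) (u v : (Σ b, Fin (sz b)) → F) :
    blockForm sz π hsz c u v =
      ∑ x, c x.1 * (-1) ^ (x.2 : ℕ) * u x * v (blockRefl sz π hsz x) := by
  rw [blockForm, Matrix.toBilin'_apply]
  refine Finset.sum_congr rfl fun x _ => ?_
  rw [Finset.sum_eq_single (blockRefl sz π hsz x)]
  · simp only [blockGram, Matrix.of_apply, if_true]; ring
  · intro y _ hy; simp [blockGram, hy]
  · exact fun h => absurd (Finset.mem_univ _) h

include hπ in
theorem blockForm_isSymm (c : β → F) (hc : ∀ b, c (π b) = (-1) ^ (sz b + 1) * c b) :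
    (blockForm sz π hsz c).IsSymm := by
  constructor
  intro u v
  rw [blockForm_apply, blockForm_apply]
  refine Fintype.sum_equiv (blockRefl_involutive sz π hπ hsz).toPerm _ _ fun x => ?_
  simp only [Function.Involutive.coe_toPerm, blockRefl_involutive sz π hπ hsz x]
  simp only [blockRefl, hc]
  have hx := x.2.2
  have he : ((-1 : F) ^ (sz x.1 + 1) * (-1) ^ (sz x.1 - 1 - (x.2 : ℕ))) = (-1) ^ (x.2 : ℕ) := by
    rw [← pow_add, neg_one_pow_eq_pow_mod_two (n := sz x.1 + 1 + _),
      neg_one_pow_eq_pow_mod_two (n := (x.2 : ℕ))]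
    congr 1
    omega
  calc _ = c x.1 * (-1) ^ (x.2 : ℕ) * u x * v ⟨π x.1, _⟩ := rfl
    _ = _ := by rw [← he]; ring

include hπ in
theorem blockForm_nondegenerate (c : β → F) (hc0 : ∀ b, c b ≠ 0)
    (hc : ∀ b, c (π b) = (-1) ^ (sz b + 1) * c b) : (blockForm sz π hsz c).Nondegenerate := by
  have hS := blockForm_isSymm sz π hπ hsz c hc
  have key : ∀ u, (∀ v, blockForm sz π hsz c u v = 0) → u = 0 := by
    intro u hu
    funext z
    have h := hu (Pi.single (blockRefl sz π hsz z) 1)
    rw [blockForm_apply, Finset.sum_eq_single z] at h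
    · rw [Pi.single_eq_same, mul_one] at h
      exact (mul_eq_zero.1 h).resolve_left (mul_ne_zero (hc0 _) (pow_ne_zero _ (by simp)))
    · intro x _ hx
      rw [Pi.single_eq_of_ne ((blockRefl_involutive sz π hπ hsz).injective.ne hx), mul_zero]
    · exact fun h => absurd (Finset.mem_univ _) h
  exact ⟨key, fun v hv => key v fun w => (hS.eq v w).trans (hv w)⟩

theorem blockShift_skew (c : β → F) (u v : (Σ b, Fin (sz b)) → F) :
    blockForm sz π hsz c (blockShift F sz u) v + blockForm sz π hsz c u (blockShift F sz v) = 0 := by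
  have key : (blockForm sz π hsz c).compl₁₂ (blockShift F sz) LinearMap.id +
      (blockForm sz π hsz c).compl₁₂ LinearMap.id (blockShift F sz) = 0 := by
    refine LinearMap.BilinForm.ext_basis (Pi.basisFun F _) fun y z => ?_
    simp only [LinearMap.add_apply, LinearMap.compl₁₂_apply, LinearMap.id_apply, Pi.basisFun_apply,
      LinearMap.zero_apply]
    have hs : ∀ (a x : Σ b, Fin (sz b)), blockShift F sz (Pi.single a 1) x =
        if x.1 = a.1 ∧ (x.2 : ℕ) = a.2 + 1 then 1 else 0 := by
      intro a x
      show (if (x.2 : ℕ) = 0 then 0 else (Pi.single a 1 : _ → F) ⟨x.1, ⟨x.2 - 1, by omega⟩⟩) = _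
      by_cases h0 : (x.2 : ℕ) = 0
      · rw [if_pos h0, if_neg (by omega)]
      · rw [if_neg h0, Pi.single_apply]
        refine if_congr ⟨fun h => ?_, fun h => blockExt sz h.1 (by simp only; omega)⟩ rfl rfl
        subst h
        exact ⟨rfl, by simp only; omega⟩
    have hy := y.2.2
    have hz := z.2.2
    by_cases hcond : π y.1 = z.1 ∧ (y.2 : ℕ) + z.2 + 2 = sz y.1
    · obtain ⟨hb, hi⟩ := hcond
      have hyz : sz z.1 = sz y.1 := hb ▸ hsz y.1
      rw [blockForm_apply, Finset.sum_eq_single ⟨y.1, ⟨y.2 + 1, by omega⟩⟩, hs, if_pos ⟨rfl, rfl⟩,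
        Pi.single_apply, if_pos (blockExt sz (by simp [blockRefl, hb]) (by simp [blockRefl]; omega)),
        blockForm_apply, Finset.sum_eq_single y, Pi.single_eq_same, hs,
        if_pos ⟨by simp [blockRefl, hb], by simp [blockRefl]; omega⟩]
      · simp only [pow_succ]; ring
      · intro x _ hx; rw [Pi.single_eq_of_ne hx]; ring
      · exact fun h => absurd (Finset.mem_univ _) h
      · intro x _ hx
        rw [hs, if_neg fun h => hx (blockExt sz h.1 h.2)]; ring
      · exact fun h => absurd (Finset.mem_univ _) h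
    · rw [blockForm_apply, Finset.sum_eq_zero, blockForm_apply, Finset.sum_eq_zero, add_zero]
      · intro x _
        by_cases hx : x = y
        · subst hx
          rw [hs, if_neg, mul_zero]
          intro h
          simp only [blockRefl] at h
          exact hcond ⟨h.1, by omega⟩
        · rw [Pi.single_eq_of_ne hx]; ring
      · intro x _
        rw [hs]
        split_ifs with h
        · rw [Pi.single_apply, if_neg, mul_zero]
          intro h'
          have h1 := congrArg (fun w => (w.2 : ℕ)) h'
          have h2 := congrArg (fun w => w.1) h'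
          simp only [blockRefl] at h1 h2
          rw [h.1] at h2
          have h3 : sz x.1 = sz y.1 := congrArg sz h.1
          exact hcond ⟨h2, by omega⟩
        · ring
  exact LinearMap.congr_fun₂ key u v

end model

section cayley

variable {F : Type*} [Field F] {V : Type*} [AddCommGroup V] [Module F V] [FiniteDimensional F V]

/-- The Cayley transform of a nilpotent skew map. -/
theorem exists_cayley {p : ℕ} [Fact p.Prime] [CharP F p] (h2 : (2 : F) ≠ 0) (B : BilinForm F V)
    (N : Module.End F V) (hN : N ^ p = 0) (hskew : ∀ u v, B (N u) v + B u (N v) = 0) :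
    ∃ f : Module.End F V, (∀ u v, B (f u) (f v) = B u v) ∧ f ^ p = 1 ∧
      ∀ k, layerDim (f - 1) ⊤ k = layerDim N ⊤ k := by
  obtain ⟨a, ha⟩ := IsNilpotent.isUnit_one_sub ⟨p, hN⟩
  have hc : Commute (↑a⁻¹ : Module.End F V) N :=
    Commute.units_inv_left (by rw [ha]; exact (Commute.one_left N).sub_left (Commute.refl N))
  let U : Module.End F V := (2 : F) • (↑a⁻¹ : Module.End F V)
  refine ⟨(1 + N) * ↑a⁻¹, fun u v => ?_, ?_, fun k => ?_⟩
  · obtain ⟨u, rfl⟩ : ∃ w, (a : Module.End F V) w = u :=
      ⟨(↑a⁻¹ : Module.End F V) u, by rw [← Module.End.mul_apply, Units.mul_inv, Module.End.one_apply]⟩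
    obtain ⟨v, rfl⟩ : ∃ w, (a : Module.End F V) w = v :=
      ⟨(↑a⁻¹ : Module.End F V) v, by rw [← Module.End.mul_apply, Units.mul_inv, Module.End.one_apply]⟩
    have hcancel : ∀ w, ((1 + N) * ↑a⁻¹ : Module.End F V) ((a : Module.End F V) w) = w + N w := fun w => by
      rw [← Module.End.mul_apply, mul_assoc, Units.inv_mul, mul_one, LinearMap.add_apply,
        Module.End.one_apply]
    rw [hcancel, hcancel, ha]
    simp only [LinearMap.sub_apply, Module.End.one_apply, map_add, map_sub, LinearMap.add_apply]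
    linear_combination 2 * hskew u v
  all_goals
    have hf : (1 + N) * ↑a⁻¹ - 1 = U * N := by
      have h1 : (1 + N) * ↑a⁻¹ - 1 = ((1 + N) - (a : Module.End F V)) * ↑a⁻¹ := by
        rw [sub_mul, Units.mul_inv]
      rw [h1, ha, show (1 + N) - (1 - N) = (2 : F) • N by rw [two_smul]; abel, smul_mul_assoc,
        smul_mul_assoc, hc.eq]
    have hcU : Commute U N := hc.smul_left _
  · rcases subsingleton_or_nontrivial V with hV | hV
    · exact Subsingleton.elim _ _
    have : CharP (Module.End F V) p :=
      charP_of_injective_algebraMap (RingHom.injective (algebraMap F (Module.End F V))) p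
    rw [show (1 + N) * ↑a⁻¹ = 1 + U * N by rw [← hf]; abel,
      add_pow_char_of_commute p (Commute.one_left _), one_pow, hcU.mul_pow, hN, mul_zero, add_zero]
  · rw [hf]
    refine layerDim_unit_mul ?_ hcU k
    exact (IsUnit.smul (Units.mk0 (2 : F) h2) (Units.isUnit a⁻¹) :)

end cayley

/-- Over a finite field two non-squares multiply to a square. -/
theorem isSquare_mul_of_not {F : Type*} [Field F] [Finite F] {x y : F} (hx : ¬ IsSquare x)
    (hy : ¬ IsSquare y) : IsSquare (x * y) := by
  classical
  have := Fintype.ofFinite F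
  have h0 : x * y ≠ 0 := mul_ne_zero (fun h => hx (h ▸ IsSquare.zero)) fun h => hy (h ▸ IsSquare.zero)
  rw [← quadraticChar_one_iff_isSquare h0, map_mul,
    quadraticChar_neg_one_iff_not_isSquare.2 hx, quadraticChar_neg_one_iff_not_isSquare.2 hy]
  rfl

section exist

variable {F : Type*} [Field F] [Finite F]

/-- Unipotent isometries with prescribed block sizes. -/
theorem exists_unipotent_bilin {p : ℕ} [Fact p.Prime] [CharP F p] (h2 : (2 : F) ≠ 0) (μ : Multiset ℕ)
    (hb : ∀ e ∈ μ, e ≤ p) (heven : ∀ e, Even e → Even (μ.count e))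
    {κ : Type*} [Fintype κ] [DecidableEq κ] {B₀ : BilinForm F (κ → F)} (hS : B₀.IsSymm)
    (hB : B₀.Nondegenerate) (hsum : μ.sum = Fintype.card κ)
    (htype : (∃ e ∈ μ, Odd e) ∨ ∃ X : Submodule F (κ → F),
      2 * finrank F X = Fintype.card κ ∧ ∀ x ∈ X, ∀ y ∈ X, B₀ x y = 0) :
    ∃ f : Module.End F (κ → F), (∀ u v, B₀ (f u) (f v) = B₀ u v) ∧ f ^ p = 1 ∧
      ∀ k, layerDim (f - 1) ⊤ k = μ.countP fun e => k < e := by
  classical
  let β := Σ e : μ.toFinset, Fin (μ.count e.1)
  let sz : β → ℕ := fun b => b.1.1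
  let π : β → β := fun b => ⟨b.1, if Even b.1.1 then b.2.rev else b.2⟩
  have hπ : ∀ b, π (π b) = b := fun b => by
    simp only [π]; split_ifs <;> simp
  have hsz : ∀ b, sz (π b) = sz b := fun b => rfl
  have hmap : (Finset.univ : Finset β).val.map sz = μ := by
    ext a
    rw [Multiset.count_map, ← Finset.filter_val, Finset.card_val, ← Fintype.card_subtype,
      ← Fintype.card_fin (μ.count a)]
    refine Fintype.card_congr
      { toFun := fun b => Fin.cast (congrArg (μ.count ·) b.2.symm) b.1.2
        invFun := fun i => ⟨⟨⟨a, Multiset.mem_toFinset.2 (Multiset.count_pos.1 i.pos)⟩, i⟩, rfl⟩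
        left_inv := ?_
        right_inv := fun i => rfl }
    rintro ⟨⟨⟨e, he⟩, i⟩, h⟩
    change a = e at h
    subst h
    rfl
  have hcard : Fintype.card (Σ b, Fin (sz b)) = Fintype.card κ := by
    rw [Fintype.card_sigma, ← hsum]
    conv_rhs => rw [← hmap]
    rw [← Finset.sum_eq_multiset_sum]
    exact Finset.sum_congr rfl fun b _ => Fintype.card_fin _
  have hcount : ∀ k, Nat.card {b // k < sz b} = μ.countP fun e => k < e := fun k => by
    conv_rhs => rw [← hmap]
    rw [Multiset.countP_map, Nat.card_eq_fintype_card, Fintype.card_subtype]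
    rfl
  let c₁ : β → F := fun b => if Even b.1.1 ∧ ¬ (b.2 : ℕ) < b.2.rev then -1 else 1
  have hc₁ : ∀ b, c₁ (π b) = (-1) ^ (sz b + 1) * c₁ b := by
    intro b
    by_cases he : Even b.1.1
    · have hne : (b.2 : ℕ) ≠ b.2.rev := by
        intro h
        rw [Fin.val_rev] at h
        obtain ⟨r, hr⟩ := heven _ he
        omega
      have hodd : Odd (sz b + 1) := he.add_one
      have hπb : π b = ⟨b.1, b.2.rev⟩ := by simp [π, he]
      rw [hπb, hodd.neg_one_pow]
      simp only [c₁, he, true_and, Fin.rev_rev]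
      split_ifs <;> first | ring1 | omega
    · have hev : Even (sz b + 1) := (Nat.not_even_iff_odd.1 he).add_one
      have hπb : π b = b := by simp [π, he]
      rw [hπb, hev.neg_one_pow, one_mul]
  have hc₁0 : ∀ b, c₁ b ≠ 0 := fun b => by simp only [c₁]; split_ifs <;> simp
  let e₀ := Pi.basisFun F (Σ b, Fin (sz b))
  let e₁ := Pi.basisFun F κ
  have hbd : (LinearMap.BilinForm.toMatrix e₁ B₀).det ≠ 0 :=
    (LinearMap.BilinForm.nondegenerate_iff_det_ne_zero e₁).1 hB
  have hN1 := blockForm_nondegenerate sz π hπ hsz c₁ hc₁0 hc₁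
  have hdet : ∀ c : β → F, LinearMap.BilinForm.toMatrix e₀ (blockForm sz π hsz c) = blockGram sz π hsz c :=
    fun c => by
      ext x y
      rw [LinearMap.BilinForm.toMatrix_apply, blockForm]
      simp [e₀, Matrix.toBilin'_single]
  have hd1 : (blockGram sz π hsz c₁).det ≠ 0 := by
    rw [← hdet]; exact (LinearMap.BilinForm.nondegenerate_iff_det_ne_zero e₀).1 hN1
  -- the scalars
  obtain ⟨c, hc0, hc, hsq⟩ : ∃ c : β → F, (∀ b, c b ≠ 0) ∧ (∀ b, c (π b) = (-1) ^ (sz b + 1) * c b) ∧
      IsSquare ((blockGram sz π hsz c).det * (LinearMap.BilinForm.toMatrix e₁ B₀).det) := by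
    by_cases hsq : IsSquare ((blockGram sz π hsz c₁).det * (LinearMap.BilinForm.toMatrix e₁ B₀).det)
    · exact ⟨c₁, hc₁0, hc₁, hsq⟩
    by_cases hodd : ∃ e ∈ μ, Odd e
    · obtain ⟨e, he, heo⟩ := hodd
      let b₀ : β := ⟨⟨e, Multiset.mem_toFinset.2 he⟩, ⟨0, Multiset.count_pos.2 he⟩⟩
      obtain ⟨α, hα⟩ := Forms25.exists_not_isSquare h2
      have hα0 : α ≠ 0 := fun h => hα (h ▸ IsSquare.zero)
      have hπ0 : π b₀ = b₀ := by simp [π, b₀, Nat.not_even_iff_odd.2 heo]
      refine ⟨fun b => (if b = b₀ then α else 1) * c₁ b,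
        fun b => mul_ne_zero (by split_ifs <;> simp [hα0]) (hc₁0 b), fun b => ?_, ?_⟩
      · have : π b = b₀ ↔ b = b₀ := ⟨fun h => by rw [← hπ b, h, hπ0], fun h => by rw [h, hπ0]⟩
        simp only [this, hc₁]
        ring
      · have hM : blockGram sz π hsz (fun b => (if b = b₀ then α else 1) * c₁ b) =
            Matrix.diagonal (fun x : Σ b, Fin (sz b) => if x.1 = b₀ then α else 1) *
              blockGram sz π hsz c₁ := by
          ext x y
          rw [Matrix.diagonal_mul]
          simp only [blockGram, Matrix.of_apply]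
          split_ifs <;> ring
        have hprod : ∏ x : Σ b, Fin (sz b), (if x.1 = b₀ then α else 1) = α ^ e := by
          rw [Fintype.prod_sigma, Finset.prod_eq_single b₀]
          · simp [sz, b₀]
          · intro b _ hb'; simp [hb']
          · exact fun h => absurd (Finset.mem_univ _) h
        rw [hM, Matrix.det_mul, Matrix.det_diagonal, hprod, mul_assoc]
        obtain ⟨r, hr⟩ := heo
        rw [hr, pow_succ, pow_mul', mul_assoc (_ ^ 2)]
        exact IsSquare.mul (IsSquare.sq _) (isSquare_mul_of_not hα hsq)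
    · exfalso
      refine hsq ?_
      obtain ⟨X, hX, hX0⟩ := htype.resolve_left hodd
      have hall : ∀ b : β, Even (sz b) := fun b => Nat.not_odd_iff_even.1 fun h =>
        hodd ⟨_, Multiset.mem_toFinset.1 b.1.2, h⟩
      let P : (Σ b, Fin (sz b)) → Prop := fun x => 2 * (x.2 : ℕ) < sz x.1
      have hP : ∀ x, P (blockRefl sz π hsz x) ↔ ¬ P x := fun x => by
        have := x.2.2
        obtain ⟨r, hr⟩ := hall x.1
        simp only [P, blockRefl, hsz]
        omega
      let X' : Submodule F ((Σ b, Fin (sz b)) → F) :=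
        { carrier := {u | ∀ x, ¬ P x → u x = 0}
          add_mem' := fun hu hv x hx => by simp [hu x hx, hv x hx]
          zero_mem' := fun x _ => rfl
          smul_mem' := fun a u hu x hx => by simp [hu x hx] }
      have hX'0 : ∀ u ∈ X', ∀ v ∈ X', blockForm sz π hsz c₁ u v = 0 := by
        intro u hu v hv
        rw [blockForm_apply]
        refine Finset.sum_eq_zero fun x _ => ?_
        by_cases hx : P x
        · rw [hv _ (fun h => (hP x).1 h hx), mul_zero]
        · rw [hu x hx, mul_zero, zero_mul]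
      have hk : Fintype.card {x // ¬ P x} = Fintype.card {x // P x} :=
        Fintype.card_congr ((blockRefl_involutive sz π hπ hsz).toPerm.subtypeEquiv fun x =>
          (hP x).symm)
      let E : X' ≃ₗ[F] ({x // P x} → F) :=
        { toFun := fun u x => u.1 x.1
          map_add' := fun _ _ => rfl
          map_smul' := fun _ _ => rfl
          invFun := fun g => ⟨fun x => if h : P x then g ⟨x, h⟩ else 0, fun x hx => dif_neg hx⟩
          left_inv := fun u => Subtype.ext (funext fun x => by
            by_cases h : P x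
            · simp [h]
            · simp [h, u.2 x h])
          right_inv := fun g => funext fun x => dif_pos x.2 }
      have hX'k : 2 * finrank F X' = Fintype.card κ := by
        rw [E.finrank_eq, Module.finrank_fintype_fun_eq_card, ← hcard]
        have := Fintype.card_subtype_compl P
        have := Fintype.card_subtype_le P
        omega
      have s1 := Forms25.isSquare_of_isotropic_half (blockForm_isSymm sz π hπ hsz c₁ hc₁)
        (k := finrank F X') (by rw [Module.finrank_fintype_fun_eq_card, hcard, hX'k]) e₀ hN1 rfl hX'0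
      have s2 := Forms25.isSquare_of_isotropic_half hS
        (k := finrank F X') (by rw [Module.finrank_fintype_fun_eq_card, hX'k]) e₁ hB
        (X := X) (by omega) hX0
      rw [hdet, mul_comm] at s1
      exact Forms25.isSquare_mul_trans (pow_ne_zero _ (by simp)) s1 s2
  obtain ⟨E, hE⟩ := Forms25.equiv_of_det h2 (blockForm_isSymm sz π hπ hsz c hc) hS
    (blockForm_nondegenerate sz π hπ hsz c hc0 hc) hB e₀ e₁ hcard (by rw [hdet]; exact hsq)
  obtain ⟨f, hf, hfp, hfd⟩ := exists_cayley h2 (blockForm sz π hsz c) (blockShift F sz)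
    (blockShift_pow_eq_zero sz fun b => hb _ (Multiset.mem_toFinset.1 b.1.2))
    (blockShift_skew sz π hsz c)
  refine ⟨E.toLinearMap ∘ₗ f ∘ₗ E.symm.toLinearMap, fun u v => ?_, ?_, fun k => ?_⟩
  · simp only [LinearMap.comp_apply, LinearEquiv.coe_coe, hE, hf]
    rw [← hE, LinearEquiv.apply_symm_apply, LinearEquiv.apply_symm_apply]
  · have h : ∀ i v, ((E.toLinearMap ∘ₗ f ∘ₗ E.symm.toLinearMap) ^ i : Module.End F (κ → F)) v =
        E ((f ^ i) (E.symm v)) := by
      intro i
      induction i with
      | zero => intro v; simp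
      | succ i ih => intro v; rw [pow_succ', Module.End.mul_apply, ih, pow_succ', Module.End.mul_apply]; simp
    exact LinearMap.ext fun v => by rw [h, hfp]; simp
  · rw [layerDim_conj E (f - 1) _ (fun v => by simp), hfd, layerDim_blockShift, hcount]

open QuadraticMap Cfsg.Agent.Classical in
/-- Elements of order `p` of orthogonal groups with prescribed block sizes. -/
theorem exists_unipotent {p : ℕ} [Fact p.Prime] [CharP F p] (h2 : (2 : F) ≠ 0) (μ : Multiset ℕ)
    (hb : ∀ e ∈ μ, e ≤ p) (heven : ∀ e, Even e → Even (μ.count e))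
    {κ : Type*} [Fintype κ] [DecidableEq κ] {R : QuadraticForm F (κ → F)} (hR : BNondeg R)
    (hsum : μ.sum = Fintype.card κ)
    (htype : (∃ e ∈ μ, Odd e) ∨ ∃ X : Submodule F (κ → F),
      2 * finrank F X = Fintype.card κ ∧ ∀ x ∈ X, R x = 0) :
    ∃ g : OQ R, g ^ p = 1 ∧
      ∀ k, layerDim ((g.1 : (κ → F) ≃ₗ[F] κ → F).toLinearMap - 1) ⊤ k = μ.countP fun e => k < e := by
  have hS : LinearMap.BilinForm.IsSymm (polarBilin R) := ⟨fun x y => by simp [polar_comm]⟩
  have hB : (polarBilin R).Nondegenerate :=
    ⟨fun x hx => hR x fun y => hx y, fun x hx => hR x fun y => by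
      rw [polar_comm]; exact hx y⟩
  obtain ⟨f, hf, hfp, hfd⟩ := exists_unipotent_bilin h2 μ hb heven hS hB hsum
    (htype.imp_right fun ⟨X, hX, hX0⟩ => ⟨X, hX, fun x hx y hy => by
      simp [polarBilin_apply_apply, polar, hX0 _ hx, hX0 _ hy, hX0 _ (add_mem hx hy)]⟩)
  have hp := (Fact.out : p.Prime).pos
  have hinv : f ^ (p - 1) * f = 1 ∧ f * f ^ (p - 1) = 1 := by
    rw [← pow_succ, ← pow_succ', Nat.sub_add_cancel hp]; exact ⟨hfp, hfp⟩
  let e : (κ → F) ≃ₗ[F] κ → F := LinearEquiv.ofLinearMap f (f ^ (p - 1)) hinv.2 hinv.1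
  have he : ∀ v, R (e v) = R v := fun v => by
    have h := hf v v
    simp only [polarBilin_apply_apply, polar_self, nsmul_eq_mul, Nat.cast_ofNat] at h
    exact mul_left_cancel₀ h2 h
  refine ⟨⟨e, he⟩, Subtype.ext (LinearEquiv.toLinearMap_injective ?_), hfd⟩
  rw [SubgroupClass.coe_pow]
  show (e ^ p).toLinearMap = _
  have : ∀ i : ℕ, (e ^ i).toLinearMap = f ^ i := by
    intro i
    induction i with
    | zero => rfl
    | succ i ih => rw [pow_succ, pow_succ, ← ih]; rfl
  rw [this, hfp]
  rfl

end exist

section parity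

variable {F : Type*} [Field F] {V : Type*} [AddCommGroup V] [Module F V] [FiniteDimensional F V]

/-- For an isometry of a symmetric form, `layerDim k - layerDim (k + 1)` is even for odd `k`. -/
theorem even_layerDim_sub (h2 : (2 : F) ≠ 0) {B : BilinForm F V} (hS : B.IsSymm)
    (hB : B.Nondegenerate) {f : Module.End F V} (hiso : ∀ u v, B (f u) (f v) = B u v)
    {k : ℕ} (hk : Odd k) : Even (layerDim (f - 1) ⊤ k - layerDim (f - 1) ⊤ (k + 1)) := by
  set N : Module.End F V := f - 1 with hN
  have hNa : ∀ v, N v = f v - v := fun v => rfl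
  have hfN : Commute f N := (Commute.refl f).sub_right (Commute.one_right f)
  have h1 : ∀ j u v, B ((N ^ j) u) v = (-1) ^ j * B ((f ^ j) u) ((N ^ j) v) := by
    intro j
    induction j with
    | zero => intro u v; simp
    | succ j ih =>
      intro u v
      rw [pow_succ', Module.End.mul_apply]
      have e1 : B (N ((N ^ j) u)) v = - B ((N ^ j) (f u)) (N v) := by
        have : (N ^ j) (f u) = f ((N ^ j) u) := by
          rw [← Module.End.mul_apply, ← Module.End.mul_apply, (hfN.pow_right j).eq]
        rw [this, hNa, hNa, map_sub, LinearMap.sub_apply, map_sub, hiso]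
        ring
      rw [e1, ih, ← Module.End.mul_apply, ← pow_succ, ← Module.End.mul_apply, ← pow_succ,
        ← pow_succ' N]
      ring
  let U : Submodule F V := ⊤ ⊓ LinearMap.ker (N ^ (k + 1))
  have hU : ∀ z ∈ U, (N ^ (k + 1)) z = 0 := fun z hz => hz.2
  let ψ : V →ₗ[F] U →ₗ[F] F := B.compl₂ U.subtype
  have hψ : ∀ z (v : U), ψ z v = B z v := fun z v => rfl
  let γ : U →ₗ[F] U →ₗ[F] F := ψ ∘ₗ (N ^ k) ∘ₗ U.subtype
  have hγ : ∀ u v : U, γ u v = B ((N ^ k) u) v := fun u v => rfl
  have halt : ∀ u, γ u u = 0 := by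
    intro u
    rw [hγ]
    have hz : f ((N ^ k) u) = (N ^ k) u := by
      have := hU u u.2
      rw [pow_succ', Module.End.mul_apply, hNa, sub_eq_zero] at this
      exact this
    have hfix : ∀ i, (f ^ i) ((N ^ k) (u : V)) = (N ^ k) u := by
      intro i
      induction i with
      | zero => simp
      | succ i ih => rw [pow_succ, Module.End.mul_apply, hz, ih]
    have hisok : ∀ i x y, B ((f ^ i) x) ((f ^ i) y) = B x y := by
      intro i
      induction i with
      | zero => intro x y; simp
      | succ i ih => intro x y; rw [pow_succ', Module.End.mul_apply, Module.End.mul_apply, hiso, ih]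
    have h3 := h1 k (u : V) (u : V)
    rw [hk.neg_one_pow, ← hfix k, hisok, hS.eq (u : V)] at h3
    rw [hfix] at h3
    have : 2 * B ((N ^ k) u) u = 0 := by linear_combination h3
    exact (mul_eq_zero.1 this).resolve_left h2
  have hev := CharTwoInvol.even_finrank_range_of_alternating γ halt
  have hrange : LinearMap.range γ = (layerSpace N ⊤ k).map ψ := by
    rw [show γ = ψ ∘ₗ ((N ^ k) ∘ₗ U.subtype) from rfl, LinearMap.range_comp, LinearMap.range_comp,
      Submodule.range_subtype]
    rfl
  have hker : LinearMap.ker ψ = LinearMap.range (N ^ (k + 1)) := by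
    have hle : LinearMap.range (N ^ (k + 1)) ≤ LinearMap.ker ψ := by
      rintro _ ⟨w, rfl⟩
      refine LinearMap.mem_ker.2 (LinearMap.ext fun v => ?_)
      rw [hψ, h1, hU _ v.2, map_zero, mul_zero, LinearMap.zero_apply]
    refine (Submodule.eq_of_le_of_finrank_eq hle ?_).symm
    have hor : LinearMap.ker ψ = B.orthogonal U := by
      ext z
      rw [LinearMap.mem_ker, LinearMap.ext_iff]
      simp only [hψ, LinearMap.zero_apply, Subtype.forall]
      exact forall₂_congr fun v _ => by
        show B z v = 0 ↔ B v z = 0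
        rw [← hS.eq z v]
    have := LinearMap.finrank_range_add_finrank_ker (N ^ (k + 1))
    have hUk : finrank F U = finrank F (LinearMap.ker (N ^ (k + 1))) :=
      (LinearEquiv.ofEq U _ (top_inf_eq _)).finrank_eq
    rw [hor, LinearMap.BilinForm.finrank_orthogonal hB]
    omega
  have hint : layerSpace N ⊤ k ⊓ LinearMap.ker ψ = layerSpace N ⊤ (k + 1) := by
    rw [hker]
    apply le_antisymm
    · rintro z ⟨⟨u, ⟨-, hu⟩, rfl⟩, w, hw⟩
      refine ⟨w, ⟨trivial, ?_⟩, hw⟩
      show (N ^ (k + 1 + 1)) w = 0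
      rw [pow_succ', Module.End.mul_apply, hw, ← Module.End.mul_apply, ← pow_succ']
      exact hu
    · rintro _ ⟨w, ⟨-, hw⟩, rfl⟩
      refine ⟨⟨N w, ⟨trivial, ?_⟩, ?_⟩, w, rfl⟩
      · show (N ^ (k + 1)) (N w) = 0
        rw [← Module.End.mul_apply, ← pow_succ]; exact hw
      · rw [← Module.End.mul_apply, ← pow_succ]
  have h := LinearMap.finrank_range_add_finrank_ker (ψ.domRestrict (layerSpace N ⊤ k))
  rw [LinearMap.range_domRestrict, ← hrange, LinearMap.ker_domRestrict,
    ← LinearEquiv.finrank_eq (Submodule.equivMapOfInjective (layerSpace N ⊤ k).subtype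
      (Submodule.injective_subtype _) (Submodule.comap (layerSpace N ⊤ k).subtype (LinearMap.ker ψ))).symm,
    Submodule.map_comap_subtype, hint] at h
  simp only [layerDim]
  rw [← h, Nat.add_sub_cancel_right]
  exact hev

/-- The blocks of an isometry on an invariant non-degenerate subspace. -/
theorem exists_subpartition_parity (h2 : (2 : F) ≠ 0) {B : BilinForm F V} (hS : B.IsSymm)
    (hB : B.Nondegenerate) {f : Module.End F V} (hiso : ∀ u v, B (f u) (f v) = B u v) {p : ℕ}
    (hp : (f - 1) ^ p = 0) {μ : Multiset ℕ}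
    (hμ : ∀ k, layerDim (f - 1) ⊤ k = μ.countP fun e => k < e)
    {W : Submodule F V} (hW : W.map f ≤ W) (hnd : ∀ w ∈ W, w ≠ 0 → ∃ x ∈ W, B x w ≠ 0) :
    ∃ ν : Multiset ℕ, ν ≤ μ ∧ ν.sum = finrank F W ∧ (∀ e, Even e → Even (ν.count e)) ∧
      ∀ k, ν.count (k + 1) = layerDim (f - 1) W k - layerDim (f - 1) W (k + 1) := by
  set N : Module.End F V := f - 1 with hN
  have hfinj : Function.Injective ⇑f := fun x y h => by
    refine sub_eq_zero.1 (hB.1 _ fun z => ?_)
    rw [← hiso, map_sub, h, sub_self, map_zero, LinearMap.zero_apply]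
  have hWeq : W.map f = W := Submodule.eq_of_le_of_finrank_eq hW
    (LinearEquiv.finrank_eq (Submodule.equivMapOfInjective f hfinj W)).symm
  have hWN : ∀ v ∈ W, N v ∈ W := fun v hv => W.sub_mem (hW ⟨v, hv, rfl⟩) hv
  have hres : (B.restrict W).Nondegenerate := by
    have key : ∀ w : W, (∀ x : W, B x w = 0) → w = 0 := by
      intro w h
      by_contra hw
      obtain ⟨x, hx, hne⟩ := hnd w w.2 fun h0 => hw (Subtype.ext h0)
      exact hne (h ⟨x, hx⟩)
    exact ⟨fun w h => key w fun x => (hS.eq (x : V) w).trans (h x), key⟩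
  have hc := (LinearMap.BilinForm.restrict_nondegenerate_iff_isCompl_orthogonal hS.isRefl).1 hres
  have hRN : ∀ v ∈ B.orthogonal W, N v ∈ B.orthogonal W := by
    intro v hv
    refine Submodule.sub_mem _ (fun w hw => ?_) hv
    rw [← hWeq] at hw
    obtain ⟨w', hw', rfl⟩ := hw
    show B (f w') (f v) = 0
    rw [hiso]
    exact hv w' hw'
  let c : ℕ → ℕ := fun k => layerDim N W k - layerDim N W (k + 1)
  have hcount : ∀ k, μ.count (k + 1) + μ.countP (fun b => k + 1 < b) = μ.countP fun b => k < b := by
    intro k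
    clear hμ
    induction μ using Multiset.induction_on with
    | empty => simp
    | cons b μ ih =>
      simp only [Multiset.count_cons, Multiset.countP_cons]
      split_ifs <;> omega
  have hcle : ∀ k, c k ≤ μ.count (k + 1) := by
    intro k
    have h1 := hcount k
    rw [← hμ, ← hμ, Elusive.layerDim_split hc hWN hRN, Elusive.layerDim_split hc hWN hRN] at h1
    have h2 := Elusive.layerDim_succ_le hRN k
    simp only [c]
    omega
  have hzero : ∀ k, p ≤ k → layerDim N W k = 0 := fun k hk => by
    rw [layerDim, layerSpace, pow_eq_zero_of_le hk hp, Submodule.map_zero, finrank_bot]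
  let ν : Multiset ℕ := ∑ k ∈ Finset.range p, Multiset.replicate (c k) (k + 1)
  have hν : ∀ k, ν.count (k + 1) = c k := by
    intro k
    simp only [ν, Multiset.count_sum', Multiset.count_replicate, add_left_inj]
    rw [Finset.sum_ite_eq' (Finset.range p) k c]
    split_ifs with h
    · rfl
    · simp only [Finset.mem_range, not_lt] at h
      simp [c, hzero k h]
  have hν0 : ν.count 0 = 0 := by
    simp [ν, Multiset.count_sum', Multiset.count_replicate]
  refine ⟨ν, ?_, ?_, ?_, hν⟩
  · rw [Multiset.le_iff_count]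
    intro b
    rcases b with _ | b
    · rw [hν0]; exact Nat.zero_le _
    · rw [hν]; exact hcle b
  · have hs : ν.sum = ∑ k ∈ Finset.range p, c k * (k + 1) := by
      simp only [ν]
      induction Finset.range p using Finset.induction with
      | empty => simp
      | insert k s hk ih => simp [Finset.sum_insert hk, ih]
    rw [hs]
    have key : ∀ m, ∑ k ∈ Finset.range m, c k * (k + 1) + m * layerDim N W m =
        ∑ k ∈ Finset.range m, layerDim N W k := by
      intro m
      induction m with
      | zero => simp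
      | succ m ih =>
        rw [Finset.sum_range_succ, Finset.sum_range_succ, ← ih]
        obtain ⟨e, he⟩ := Nat.exists_eq_add_of_le (Elusive.layerDim_succ_le hWN m)
        simp only [c, he, Nat.add_sub_cancel_left]
        ring
    have := key p
    rw [hzero p le_rfl, mul_zero, add_zero, Elusive.sum_layerDim, hp, LinearMap.ker_zero,
      inf_top_eq] at this
    exact this
  · rintro (_ | e) he
    · rw [hν0]; exact Even.zero
    · rw [hν]
      have hodd : Odd e := by rwa [Nat.even_add_one, Nat.not_even_iff_odd] at he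
      have hWf : ∀ v ∈ W, f v ∈ W := fun v hv => hW ⟨v, hv, rfl⟩
      have hfr : f.restrict hWf - 1 = N.restrict hWN := LinearMap.ext fun v => Subtype.ext rfl
      simp only [c]
      rw [← layerDim_restrict hWN, ← layerDim_restrict hWN, ← hfr]
      exact even_layerDim_sub h2 (B := B.restrict W) ⟨fun x y => hS.eq (x : V) y⟩ hres
        (fun u v => hiso u v) hodd

end parity

end Cfsg.Agent.Elusive25
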